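import Cfsg.Agent.J4Maximal.Data11.Pool

/-!
Words and certificates for the prime 11.
-/

set_option autoImplicit false
set_option maxRecDepth 8000

namespace Cfsg.Lib.J4Maximal.P11

open Cfsg.Lib.J4Cert

/-- The node of each pool element. -/
def pnode : List ℕ := [291, 172, 552, 495, 499, 690, 794, 925]

/-- The pool tables. -/
def ptabs : List (List ℕ) := [pt0, pt1, pt2, pt3, pt4, pt5, pt6, pt7]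

/-- The test vector. -/
def f0 : ℕ := 0x7c6ae8377a9eaef7c6d6b611b447

/-- A generic vector. -/
def w0 : ℕ := 0x21638b529b4a97b750923ceb3ffd

/-- Thirty elements fixing the test vector, by key. -/
def fixW : List (List ℕ) := [[2, 2, 3, 3, 4, 4, 4], [3, 2, 3, 4, 4], [4], [], [2, 3, 2, 3, 3, 4], [2, 2, 3, 3, 4], [4, 4], [2, 3, 2, 3, 3], [2, 2, 2, 3, 4, 4, 4], [2, 3, 2, 2, 3, 4, 4, 4, 4], [3, 2, 3, 4], [3, 2, 3, 4, 4, 4, 4], [2, 2, 2, 3], [4, 4, 4], [2, 2, 3, 3, 4, 4, 4, 4], [2, 2, 3, 3, 4, 4], [2, 2, 2, 3, 4, 4], [2, 2, 3, 3], [2, 3, 2, 2, 3, 4, 4], [2, 3, 2, 3, 3, 4, 4, 4, 4], [2, 3, 2, 3, 3, 4, 4, 4], [2, 3, 2, 2, 3, 4, 4, 4], [2, 3, 2, 2, 3, 4], [4, 4, 4, 4], [2, 2, 2, 3, 4], [2, 3, 2, 3, 3, 4, 4], [2, 2, 2, 3, 4, 4, 4, 4], [3, 2, 3, 4, 4, 4], [3, 2, 3], [2, 3, 2, 2, 3]]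

/-- Representatives on the left. -/
def lefW : List (List ℕ) := [[], [2], [3], [3, 2], [3, 2, 2], [3, 2, 2, 2], [3, 2, 2, 3], [3, 2, 2, 3, 2]]

/-- Double coset representatives. -/
def repW : List (List ℕ) := [[], [5], [6], [7], [5, 6], [6, 7], [7, 2, 7], [7, 6, 7], [7, 3, 7, 2, 7], [6, 7, 3, 7, 2, 7]]

/-- Elements on the right. -/
def rigW : List (List ℕ) := [[], [2], [3], [2, 2], [2, 3], [3, 2], [3, 3], [2, 2, 2], [2, 2, 3], [2, 3, 2], [2, 3, 3], [3, 2, 2], [3, 2, 3], [3, 3, 2], [2, 2, 2, 2], [2, 2, 2, 3], [2, 2, 3, 2], [2, 2, 3, 3], [2, 3, 2, 2], [2, 3, 2, 3], [3, 2, 2, 2], [3, 2, 2, 3], [3, 2, 3, 2], [3, 2, 3, 3], [3, 3, 2, 2], [3, 3, 2, 3], [2, 2, 2, 2, 2], [2, 2, 2, 2, 3], [2, 2, 2, 3, 2], [2, 2, 2, 3, 3], [2, 2, 3, 2, 2], [2, 2, 3, 2, 3], [2, 3, 2, 2, 2], [2, 3, 2, 2, 3], [2,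 3, 2, 3, 2], [2, 3, 2, 3, 3], [3, 2, 2, 3, 2], [3, 2, 2, 3, 3], [3, 2, 3, 2, 2], [3, 2, 3, 2, 3], [3, 3, 2, 2, 2], [3, 3, 2, 2, 3], [3, 3, 2, 3, 2], [3, 3, 2, 3, 3], [2, 2, 2, 2, 2, 2], [2, 2, 2, 2, 2, 3], [2, 2, 2, 2, 3, 2], [2, 2, 2, 2, 3, 3]]

/-- The elements of the normaliser, by key. -/
def ent0 : List (ℕ × ℕ × ℕ) := [(1, 5, 2), (4, 7, 5), (0, 5, 15), (4, 7, 33), (0, 3, 11), (3, 3, 19), (0, 3, 45), (4, 7, 19), (1, 3, 23), (3, 3, 5), (4, 7, 41), (1, 5, 23), (0, 5, 30), (2, 5, 22), (0, 9, 6), (3, 7, 31), (3, 5, 18), (3, 8, 7), (0, 7, 44), (0, 6, 0), (5, 3, 13), (0, 8, 7), (0, 7, 14), (0, 8, 18), (0, 5, 47), (0, 6, 9), (3, 7, 27), (0, 7, 25), (3, 7, 21), (0, 3, 47), (0, 7, 20), (3, 7, 36), (5, 6, 41), (3, 7, 4), (1, 6, 23), (0, 7, 28), (2, 6, 13), (4, 7, 43), (0, 7, 27), (1, 6, 25),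 (0, 4, 21), (0, 1, 31), (2, 6, 17), (0, 5, 24), (2, 7, 5), (0, 5, 26), (2, 7, 19), (5, 6, 5), (4, 7, 35), (0, 7, 31), (0, 1, 15), (4, 7, 32), (5, 6, 15), (2, 6, 26), (4, 0, 0), (1, 6, 0), (5, 3, 31), (5, 3, 23), (5, 3, 42), (6, 7, 9), (0, 9, 32), (2, 5, 9), (0, 9, 34), (3, 5, 45), (3, 7, 24), (3, 5, 30), (6, 7, 33), (1, 5, 11), (0, 5, 25), (3, 7, 17), (0, 4, 26), (0, 4, 20), (2, 5, 19), (2, 5, 29), (3, 5, 26), (0, 5, 23), (1, 3, 15), (1, 3, 35), (5, 5, 22), (1, 3, 1), (0, 4, 10), (1, 3, 44), (6, 7, 28), (3, 7, 19), (0, 4, 1), (2, 6, 25), (2, 7, 41), (5, 3, 22), (5, 5, 4), (2, 6, 44), (1, 3, 25), (4, 7, 24), (0, 5, 18), (0, 5, 40), (5, 5, 0), (5, 6, 29), (5, 3, 33), (6, 7, 3), (1, 3, 20), (5, 5, 5), (1, 6, 5), (0, 9, 3), (0, 9, 5), (0, 7, 32), (0, 3, 10), (5, 3, 46), (3, 7, 32), (0, 3,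 14), (1, 3, 0), (5, 3, 37), (5, 5, 19), (6, 7, 6), (0, 1, 1), (4, 6, 1), (3, 7, 9), (5, 3, 41), (0, 1, 10), (1, 3, 3), (2, 6, 43), (0, 6, 20), (0, 3, 44), (5, 3, 16), (0, 6, 14), (5, 6, 25), (3, 3, 14), (3, 3, 22), (0, 3, 19), (4, 7, 28), (3, 7, 38), (1, 3, 29), (0, 5, 39), (5, 3, 5), (0, 7, 17), (0, 8, 5), (0, 8, 3), (1, 6, 46), (1, 3, 10), (3, 3, 8), (5, 3, 19), (0, 6, 17), (3, 3, 18), (0, 5, 13), (2, 6, 33), (1, 3, 14), (2, 5, 21), (3, 5, 39), (2, 6, 10), (3, 5, 4), (0, 8, 34), (5, 3, 38), (0, 8, 32), (0, 6, 25), (5, 3, 8), (5, 3, 40), (2, 6, 16), (0, 3, 27), (7, 3, 16), (0, 6, 5), (0, 1, 20), (0, 1, 26), (1, 3, 11), (1, 3, 13), (1, 3, 26), (3, 3, 4), (2, 5, 25), (2, 5, 37), (0, 3, 3), (3, 5, 1), (4, 7, 7), (3, 7, 35), (1, 6, 29), (0, 7, 2), (2, 6, 30), (5, 6, 22), (0, 7, 24), (1, 6,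 40), (0, 4, 31), (0, 1, 21), (4, 6, 16), (0, 3, 24), (3, 7, 16), (0, 3, 26), (3, 7, 22), (5, 6, 13), (4, 7, 17), (1, 6, 14), (0, 2, 11), (4, 7, 11), (5, 6, 46), (4, 6, 22), (0, 4, 15), (0, 7, 38), (0, 5, 16), (4, 7, 16), (5, 5, 18), (4, 7, 46), (7, 3, 27), (0, 3, 0), (7, 3, 3), (4, 7, 22), (0, 3, 20), (2, 5, 41), (4, 7, 37), (0, 5, 41), (1, 3, 40), (5, 5, 8), (0, 9, 7), (5, 3, 15), (6, 7, 34), (0, 9, 18), (0, 7, 0), (3, 5, 36), (2, 6, 3), (0, 8, 6), (0, 7, 3), (1, 9, 7), (0, 5, 43), (2, 6, 29), (0, 7, 10), (2, 6, 8), (6, 7, 24), (0, 3, 43), (2, 6, 23), (0, 7, 29)]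

/-- The elements of the normaliser, by key. -/
def ent1 : List (ℕ × ℕ × ℕ) := [(1, 6, 39), (5, 6, 9), (5, 6, 28), (0, 7, 4), (5, 3, 11), (5, 6, 38), (1, 3, 12), (3, 5, 2), (3, 5, 34), (5, 6, 12), (2, 5, 6), (0, 4, 11), (1, 6, 43), (2, 5, 10), (1, 6, 1), (0, 2, 0), (5, 3, 43), (1, 3, 42), (4, 7, 40), (0, 3, 1), (1, 6, 47), (1, 6, 32), (0, 3, 28), (5, 6, 2), (0, 5, 38), (0, 3, 38), (0, 9, 10), (2, 5, 1), (5, 3, 28), (0, 8, 0), (0, 1, 37), (1, 3, 6), (2, 6, 40), (0, 4, 46), (3, 5, 6), (2, 6, 42), (1, 9, 9), (2, 6, 11), (3, 7, 30), (0, 9, 2), (2, 7, 14), (0, 3, 37), (3, 7, 13), (3, 7, 11), (3, 3, 0), (3, 7, 44), (2, 6, 39), (2, 6, 45), (2, 6, 7), (7, 3, 26), (0, 4, 7), (0, 4, 3), (5, 6, 11), (3, 3, 1), (4, 6, 26), (4, 7, 13), (0, 1, 9), (0, 1, 5), (0, 8, 9), (0, 5, 46), (0, 7, 36), (4, 6,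 6), (1, 6, 8), (1, 5, 20), (0, 9, 14), (3, 7, 33), (0, 3, 21), (0, 6, 23), (3, 7, 41), (4, 6, 8), (0, 5, 21), (4, 6, 7), (2, 5, 15), (7, 3, 11), (2, 5, 34), (0, 5, 33), (1, 5, 10), (0, 3, 2), (3, 5, 19), (7, 3, 2), (0, 5, 5), (5, 3, 32), (2, 5, 30), (0, 6, 24), (1, 6, 4), (4, 6, 23), (5, 6, 0), (7, 3, 23), (0, 7, 39), (2, 6, 20), (3, 5, 5), (4, 7, 31), (0, 5, 22), (0, 6, 8), (0, 7, 7), (3, 7, 3), (2, 5, 27), (0, 9, 41), (4, 7, 42), (1, 6, 22), (0, 8, 33), (5, 6, 18), (3, 5, 16), (2, 7, 0), (1, 3, 9), (2, 5, 40), (3, 3, 26), (0, 5, 7), (3, 5, 9), (7, 3, 1), (0, 3, 7), (3, 5, 41), (3, 5, 37), (0, 5, 29), (5, 3, 17), (0, 3, 8), (1, 5, 27), (1, 5, 16), (2, 5, 13), (7, 3, 20), (0, 3, 35), (2, 5, 12), (3, 7, 28), (3, 5, 46), (0, 7, 30), (6, 7, 2), (0, 3, 4), (4, 7, 38), (1, 6, 45), (2, 5, 39),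 (6, 7, 10), (1, 5, 3), (5, 6, 14), (2, 7, 18), (1, 6, 41), (3, 5, 33), (4, 6, 3), (5, 6, 36), (0, 9, 33), (0, 7, 43), (4, 7, 8), (0, 8, 41), (2, 6, 31), (2, 5, 2), (3, 5, 21), (3, 5, 22), (0, 5, 6), (1, 5, 26), (1, 3, 21), (0, 3, 6), (5, 5, 1), (2, 5, 23), (2, 6, 38), (5, 5, 14), (3, 7, 39), (3, 7, 45), (0, 5, 36), (4, 6, 12), (2, 6, 15), (2, 6, 35), (2, 7, 7), (5, 5, 26), (0, 4, 5), (0, 4, 9), (4, 7, 15), (1, 5, 1), (3, 7, 37), (5, 6, 35), (0, 1, 3), (0, 1, 7), (0, 8, 14), (7, 3, 10), (1, 6, 42), (2, 6, 32), (0, 7, 18), (0, 3, 42), (0, 9, 9), (2, 7, 32), (0, 3, 31), (2, 7, 2), (2, 7, 1), (6, 7, 18), (0, 5, 31), (2, 6, 1), (0, 5, 9), (0, 3, 9), (5, 3, 24), (0, 9, 0), (0, 8, 10), (2, 5, 26), (3, 7, 18), (3, 5, 47), (0, 1, 46), (3, 7, 2), (1, 3, 47), (0, 4, 37), (0, 8, 2), (2, 6, 4), (3,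 7, 15), (3, 8, 9), (0, 7, 45), (5, 6, 24), (5, 6, 21), (1, 6, 30), (3, 5, 27), (3, 5, 12), (5, 6, 34), (5, 3, 35), (5, 6, 31), (1, 3, 34), (1, 6, 26), (5, 3, 7), (0, 0, 0), (1, 3, 8), (0, 1, 11), (2, 5, 47), (1, 6, 7), (2, 5, 20), (5, 6, 27), (0, 5, 1), (1, 6, 17), (1, 6, 6), (0, 5, 28), (4, 7, 23)]

/-- The elements of the normaliser, by key. -/
def ent2 : List (ℕ × ℕ × ℕ) := [(3, 5, 0), (3, 7, 5), (0, 5, 14), (7, 3, 19), (2, 7, 33), (2, 5, 18), (0, 7, 47), (0, 9, 8), (0, 3, 39), (2, 5, 42), (3, 5, 10), (1, 5, 8), (1, 9, 0), (1, 6, 33), (5, 6, 20), (0, 3, 18), (2, 5, 11), (2, 7, 34), (1, 5, 22), (2, 6, 34), (3, 5, 25), (7, 3, 0), (4, 7, 9), (0, 5, 44), (4, 6, 9), (0, 6, 26), (3, 5, 3), (0, 2, 20), (2, 5, 4), (3, 7, 10), (2, 6, 41), (0, 4, 4), (0, 5, 3), (2, 5, 17), (5, 3, 36), (3, 5,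 35), (5, 3, 12), (1, 5, 4), (3, 5, 15), (5, 3, 27), (0, 4, 30), (0, 2, 1), (0, 3, 25), (2, 7, 6), (3, 7, 46), (3, 3, 11), (1, 9, 14), (2, 5, 3), (1, 3, 39), (4, 6, 24), (1, 3, 7), (1, 3, 4), (2, 6, 21), (2, 5, 46), (0, 9, 40), (3, 5, 7), (0, 4, 0), (0, 7, 34), (3, 7, 43), (4, 7, 30), (4, 7, 47), (1, 6, 3), (0, 4, 17), (5, 6, 45), (5, 6, 33), (0, 6, 7), (3, 3, 12), (2, 6, 5), (7, 3, 17), (6, 7, 32), (0, 2, 2), (0, 1, 27), (1, 6, 10), (1, 6, 18), (5, 6, 37), (6, 7, 15), (0, 7, 21), (0, 7, 42), (4, 6, 4), (4, 7, 26), (1, 6, 21), (4, 6, 27), (2, 7, 28), (5, 5, 9), (0, 6, 2), (1, 6, 24), (7, 3, 9), (2, 6, 28), (1, 6, 12), (0, 9, 24), (1, 3, 18), (4, 6, 14), (1, 9, 1), (0, 9, 19), (1, 6, 38), (0, 8, 4), (2, 5, 0), (3, 7, 14), (0, 5, 20), (3, 5, 40), (5, 6, 26), (0, 3, 41), (5, 3, 4), (7, 3,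 8), (5, 5, 3), (5, 6, 7), (0, 3, 15), (5, 6, 47), (0, 5, 11), (1, 5, 19), (3, 3, 2), (5, 6, 32), (6, 7, 40), (1, 6, 28), (3, 7, 20), (1, 5, 21), (1, 6, 9), (2, 7, 8), (3, 3, 21), (4, 6, 20), (1, 6, 31), (0, 8, 19), (2, 6, 12), (2, 5, 14), (0, 9, 4), (0, 8, 24), (1, 6, 34), (3, 8, 1), (2, 7, 3), (1, 3, 36), (5, 3, 45), (1, 5, 5), (5, 6, 43), (3, 3, 23), (0, 3, 30), (3, 5, 23), (0, 5, 45), (5, 6, 1), (7, 3, 18), (5, 6, 17), (5, 5, 27), (0, 5, 0), (0, 3, 16), (5, 6, 6), (0, 1, 17), (1, 6, 44), (6, 7, 1), (5, 6, 16), (5, 6, 4), (0, 7, 12), (0, 1, 0), (4, 7, 6), (4, 7, 39), (2, 6, 19), (1, 5, 12), (0, 6, 6), (5, 5, 17), (3, 7, 47), (0, 4, 27), (2, 0, 0), (0, 7, 8), (0, 7, 9), (4, 7, 1), (2, 7, 13), (1, 6, 36), (1, 6, 20), (0, 6, 11), (5, 6, 19), (7, 3, 22), (5, 3, 34), (5, 3, 2), (3, 5, 13),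 (2, 5, 32), (0, 3, 23), (3, 5, 11), (5, 3, 18), (1, 0, 0), (0, 1, 30), (5, 5, 16), (2, 6, 6), (4, 6, 17), (0, 5, 27), (0, 8, 40), (2, 5, 5), (3, 7, 29), (1, 3, 45), (3, 5, 43), (2, 7, 10), (1, 3, 30), (2, 5, 44), (3, 8, 14), (1, 3, 43), (4, 6, 5), (1, 5, 18), (2, 5, 36), (3, 5, 14), (0, 3, 13), (2, 6, 47), (1, 6, 16), (3, 8, 0), (3, 5, 20), (7, 3, 5), (0, 5, 10), (2, 5, 8), (0, 8, 8), (0, 7, 6), (4, 7, 21), (1, 5, 14), (3, 7, 0), (3, 5, 29), (0, 3, 40), (2, 5, 35), (4, 6, 0), (0, 5, 19), (5, 6, 10), (7, 3, 4), (2, 5, 45), (3, 7, 1), (2, 6, 24), (0, 1, 4), (6, 7, 7), (2, 7, 24), (3, 5, 44), (5, 0, 0)]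

/-- The elements of the normaliser, by key. -/
def ent3 : List (ℕ × ℕ × ℕ) := [(0, 3, 34), (1, 5, 9), (5, 3, 44), (2, 5, 7), (1, 3, 22), (0, 3, 32), (3, 3, 9), (5, 3, 47), (0, 9, 35), (4, 7, 27), (1, 3, 16), (6, 7, 14), (0, 7, 1), (3, 7, 34), (5, 3, 29), (3, 8, 15), (5, 6, 23), (1, 6, 19), (5, 6, 3), (3, 3, 3), (2, 6, 18), (1, 6, 13), (2, 7, 9), (1, 3, 46), (2, 6, 27), (4, 7, 34), (0, 5, 4), (5, 3, 20), (3, 7, 25), (0, 7, 11), (5, 5, 2), (0, 5, 8), (1, 3, 28), (0, 5, 2), (5, 3, 14), (3, 5, 24), (0, 3, 33), (5, 5, 20), (1, 3, 19), (5, 5, 11), (6, 7, 19), (1, 5, 6), (2, 6, 2), (2, 6, 37), (2, 6, 36), (3, 3, 6), (0, 6, 16), (5, 5, 10), (1, 6, 2), (1, 9, 3), (3, 7, 6), (0, 8, 13), (0, 7, 40), (0, 5, 42), (0, 4, 2), (4, 7, 45), (0, 1, 8), (0, 3, 17), (6, 7, 41), (0, 2, 36), (5, 6, 30), (6,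 0, 0), (3, 7, 26), (0, 3, 12), (2, 7, 15), (0, 6, 15), (0, 5, 37), (3, 7, 12), (2, 7, 35), (0, 6, 4), (6, 7, 0), (1, 5, 0), (6, 7, 35), (0, 8, 28), (0, 8, 1), (4, 6, 15), (2, 5, 38), (0, 4, 36), (2, 7, 40), (5, 3, 21), (3, 0, 0), (6, 7, 8), (1, 3, 32), (3, 8, 4), (0, 9, 15), (3, 5, 17), (7, 3, 6), (5, 5, 6), (0, 7, 5), (5, 6, 8), (5, 5, 12), (1, 5, 17), (4, 7, 36), (0, 7, 33), (3, 5, 8), (0, 7, 22), (3, 5, 38), (0, 1, 14), (5, 3, 39), (0, 1, 16), (1, 3, 38), (0, 7, 37), (5, 3, 1), (4, 7, 14), (1, 3, 2), (4, 7, 44), (2, 5, 28), (2, 5, 33), (4, 7, 29), (0, 7, 15), (1, 6, 35), (4, 7, 10), (0, 7, 16), (4, 7, 18), (7, 3, 12), (3, 3, 17), (5, 6, 42), (0, 7, 46), (5, 3, 30), (1, 3, 31), (0, 4, 16), (0, 7, 19), (3, 5, 42), (0, 7, 41), (0, 4, 14), (3, 5, 31), (4, 7, 3), (2, 5, 24), (2, 5, 16),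 (5, 3, 26), (4, 7, 0), (1, 3, 27), (4, 7, 20), (1, 6, 11), (0, 7, 13), (4, 7, 25), (2, 7, 4), (0, 9, 1), (0, 9, 28), (0, 6, 13), (0, 6, 27), (0, 2, 5), (5, 3, 9), (4, 6, 2), (0, 1, 36), (2, 5, 31), (0, 8, 15), (3, 5, 32), (1, 3, 17), (1, 9, 4), (3, 3, 7), (1, 5, 7), (3, 7, 7), (5, 5, 7), (3, 7, 8), (0, 6, 22), (3, 7, 40), (7, 3, 7), (2, 6, 46), (0, 3, 46), (0, 7, 23), (0, 9, 13), (6, 7, 5), (3, 8, 3), (1, 6, 27), (3, 3, 20), (0, 2, 21), (5, 6, 39), (7, 0, 0), (0, 5, 17), (2, 6, 22), (0, 4, 8), (4, 7, 4), (0, 1, 2), (0, 6, 1), (0, 5, 12), (6, 7, 13), (4, 6, 13), (7, 3, 14), (0, 6, 3), (6, 7, 4), (4, 6, 11), (2, 6, 14), (0, 3, 36), (5, 5, 21), (0, 5, 34), (1, 3, 41), (5, 3, 6), (5, 3, 3), (7, 3, 21), (0, 5, 32), (2, 5, 43), (5, 6, 40), (1, 9, 15), (2, 6, 0), (5, 3, 25), (1, 6, 37), (1, 3,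 33), (0, 6, 12), (4, 7, 2), (0, 8, 35), (0, 7, 26), (0, 3, 22), (4, 7, 12), (3, 7, 23), (0, 7, 35), (5, 3, 10), (2, 6, 9), (3, 7, 42), (5, 5, 23), (5, 6, 44), (4, 6, 25), (1, 3, 5), (1, 6, 15), (3, 3, 10), (0, 5, 35), (3, 5, 28), (3, 3, 16), (1, 3, 37), (1, 3, 24), (0, 3, 5), (3, 3, 27), (5, 3, 0), (0, 3, 29)]

/-- Bounds of the chunks. -/
def bnd : List ℕ := [0, 0x3fafffc4a8e4ffe3b82f09376687, 0x7f6eae62c445a4ac836a161200b3, 0xbfa387fd671776ccc9abcdaa92da, 0xfff8a763a963463376b42c1f3a5c]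

/-- Words with elements of orders divisible by 29, 37 and 43. -/
def crt : List (ℕ × (List ℕ × ℕ) × (List ℕ × ℕ) × (List ℕ × ℕ)) := [(1, ([0, 0, 0, 0, 8], 0x60b70b813439c2fa7b1f9d5200ef), ([0, 8], 0x9b0810c67fd994b2b8fda02f34a6), ([0, 3, 8], 0xd2d507f062cec7b317d94d1fe09f)), (2, ([1, 8], 0x8d0454b9693c961cadbcb7ebb70c), ([0, 1, 8], 0x1bad13b45a3901da01354f468977), ([1, 1, 2, 8], 0xf4700f81f60c96e1689405adc011)), (3, ([1, 8, 8], 0x1ad8608d9499c98c9e514ce74654), ([1, 2, 8], 0x21a4bc344f4baf091db491bae46a), ([0, 2, 8], 0xa6486f6b8421ad9593b42ff9134d)), (4, ([0, 0, 4, 8], 0x1eb849799084f8911b0496b3952d), ([0, 1, 4, 8], 0xf69f84de2a4fbf7ddfa7a9b9876d), ([0, 1, 8], 0x14772b56363cf5efd434db045aae)), (5, ([0, 0, 1, 8], 0x4615caab02c83d4d071b2bda7712), ([0, 0, 0, 1, 8], 0xe48e36f2c720ab0e211fae68cf),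 ([0, 8, 8], 0x6678dcd06050922631c6a0ec66f3)), (6, ([0, 8, 8], 0x8df11b538e133d019261b7149706), ([1, 8], 0xcb9861574803b9191d5cb74e9504), ([0, 1, 3, 8], 0xb77196775bc0cfc661781a66f0bf)), (7, ([1, 1, 1, 2, 8], 0xe6d9d5a91d4c949cc37677d2519b), ([0, 1, 8], 0xa55e2e05910aff93d8213dfbf921), ([1, 1, 8], 0x13ccd3fbb2492e3026209060d1cf)), (8, ([0, 0, 0, 1, 1, 4, 8], 0x56f2ee08da3d04d6a38789f40abf), ([1, 8], 0x71b8e9f7f9da70376bad2555e5e), ([0, 3, 8], 0xacd6b46977d09f355e742feb67af)), (9, ([1, 1, 1, 8], 0xda0e899562ac116773f2b303e1b2), ([0, 0, 8], 0xff7357f5b3a1fe7fbc55bd5e445f), ([0, 1, 8], 0x1479b748a37e08b1e2d1ed4e4890))]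


end Cfsg.Lib.J4Maximal.P11
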