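import Cfsg.Agent.J4Maximal.Data11.Nodes0
import Cfsg.Agent.J4Maximal.Data11.Nodes1
import Cfsg.Agent.J4Maximal.Data11.Nodes2
import Cfsg.Agent.J4Maximal.Data11.Nodes3
import Cfsg.Agent.J4Maximal.Data11.Nodes4

/-!
The table of the nodes and how they arise.
-/

set_option autoImplicit false
set_option maxRecDepth 8000

namespace Cfsg.Lib.J4Maximal.P11

open Cfsg.Lib.J4Cert

def ndTree0 : Tr (List ℕ) := .node (.leaf nd0) (.leaf nd256)

def ndTree1 : Tr (List ℕ) := .node ndTree0 (.leaf nd128)

def ndTree2 : Tr (List ℕ) := .node (.leaf nd64) (.leaf nd320)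

def ndTree3 : Tr (List ℕ) := .node ndTree2 (.leaf nd192)

def ndTree4 : Tr (List ℕ) := .node ndTree1 ndTree3

def ndTree5 : Tr (List ℕ) := .node (.leaf nd32) (.leaf nd288)

def ndTree6 : Tr (List ℕ) := .node ndTree5 (.leaf nd160)

def ndTree7 : Tr (List ℕ) := .node (.leaf nd96) (.leaf nd352)

def ndTree8 : Tr (List ℕ) := .node ndTree7 (.leaf nd224)

def ndTree9 : Tr (List ℕ) := .node ndTree6 ndTree8

def ndTree10 : Tr (List ℕ) := .node ndTree4 ndTree9

def ndTree11 : Tr (List ℕ) := .node (.leaf nd16) (.leaf nd272)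

def ndTree12 : Tr (List ℕ) := .node ndTree11 (.leaf nd144)

def ndTree13 : Tr (List ℕ) := .node (.leaf nd80) (.leaf nd336)

def ndTree14 : Tr (List ℕ) := .node ndTree13 (.leaf nd208)

def ndTree15 : Tr (List ℕ) := .node ndTree12 ndTree14

def ndTree16 : Tr (List ℕ) := .node (.leaf nd48) (.leaf nd304)

def ndTree17 : Tr (List ℕ) := .node ndTree16 (.leaf nd176)

def ndTree18 : Tr (List ℕ) := .node (.leaf nd112) (.leaf nd368)

def ndTree19 : Tr (List ℕ) := .node ndTree18 (.leaf nd240)

def ndTree20 : Tr (List ℕ) := .node ndTree17 ndTree19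

def ndTree21 : Tr (List ℕ) := .node ndTree15 ndTree20

def ndTree22 : Tr (List ℕ) := .node ndTree10 ndTree21

def ndTree23 : Tr (List ℕ) := .node (.leaf nd8) (.leaf nd264)

def ndTree24 : Tr (List ℕ) := .node ndTree23 (.leaf nd136)

def ndTree25 : Tr (List ℕ) := .node (.leaf nd72) (.leaf nd328)

def ndTree26 : Tr (List ℕ) := .node ndTree25 (.leaf nd200)

def ndTree27 : Tr (List ℕ) := .node ndTree24 ndTree26

def ndTree28 : Tr (List ℕ) := .node (.leaf nd40) (.leaf nd296)

def ndTree29 : Tr (List ℕ) := .node ndTree28 (.leaf nd168)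

def ndTree30 : Tr (List ℕ) := .node (.leaf nd104) (.leaf nd360)

def ndTree31 : Tr (List ℕ) := .node ndTree30 (.leaf nd232)

def ndTree32 : Tr (List ℕ) := .node ndTree29 ndTree31

def ndTree33 : Tr (List ℕ) := .node ndTree27 ndTree32

def ndTree34 : Tr (List ℕ) := .node (.leaf nd24) (.leaf nd280)

def ndTree35 : Tr (List ℕ) := .node ndTree34 (.leaf nd152)

def ndTree36 : Tr (List ℕ) := .node (.leaf nd88) (.leaf nd344)

def ndTree37 : Tr (List ℕ) := .node ndTree36 (.leaf nd216)

def ndTree38 : Tr (List ℕ) := .node ndTree35 ndTree37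

def ndTree39 : Tr (List ℕ) := .node (.leaf nd56) (.leaf nd312)

def ndTree40 : Tr (List ℕ) := .node ndTree39 (.leaf nd184)

def ndTree41 : Tr (List ℕ) := .node (.leaf nd120) (.leaf nd376)

def ndTree42 : Tr (List ℕ) := .node ndTree41 (.leaf nd248)

def ndTree43 : Tr (List ℕ) := .node ndTree40 ndTree42

def ndTree44 : Tr (List ℕ) := .node ndTree38 ndTree43

def ndTree45 : Tr (List ℕ) := .node ndTree33 ndTree44

def ndTree46 : Tr (List ℕ) := .node ndTree22 ndTree45

def ndTree47 : Tr (List ℕ) := .node (.leaf nd4) (.leaf nd260)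

def ndTree48 : Tr (List ℕ) := .node ndTree47 (.leaf nd132)

def ndTree49 : Tr (List ℕ) := .node (.leaf nd68) (.leaf nd324)

def ndTree50 : Tr (List ℕ) := .node ndTree49 (.leaf nd196)

def ndTree51 : Tr (List ℕ) := .node ndTree48 ndTree50

def ndTree52 : Tr (List ℕ) := .node (.leaf nd36) (.leaf nd292)

def ndTree53 : Tr (List ℕ) := .node ndTree52 (.leaf nd164)

def ndTree54 : Tr (List ℕ) := .node (.leaf nd100) (.leaf nd356)

def ndTree55 : Tr (List ℕ) := .node ndTree54 (.leaf nd228)

def ndTree56 : Tr (List ℕ) := .node ndTree53 ndTree55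

def ndTree57 : Tr (List ℕ) := .node ndTree51 ndTree56

def ndTree58 : Tr (List ℕ) := .node (.leaf nd20) (.leaf nd276)

def ndTree59 : Tr (List ℕ) := .node ndTree58 (.leaf nd148)

def ndTree60 : Tr (List ℕ) := .node (.leaf nd84) (.leaf nd340)

def ndTree61 : Tr (List ℕ) := .node ndTree60 (.leaf nd212)

def ndTree62 : Tr (List ℕ) := .node ndTree59 ndTree61

def ndTree63 : Tr (List ℕ) := .node (.leaf nd52) (.leaf nd308)

def ndTree64 : Tr (List ℕ) := .node ndTree63 (.leaf nd180)

def ndTree65 : Tr (List ℕ) := .node (.leaf nd116) (.leaf nd372)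

def ndTree66 : Tr (List ℕ) := .node ndTree65 (.leaf nd244)

def ndTree67 : Tr (List ℕ) := .node ndTree64 ndTree66

def ndTree68 : Tr (List ℕ) := .node ndTree62 ndTree67

def ndTree69 : Tr (List ℕ) := .node ndTree57 ndTree68

def ndTree70 : Tr (List ℕ) := .node (.leaf nd12) (.leaf nd268)

def ndTree71 : Tr (List ℕ) := .node ndTree70 (.leaf nd140)

def ndTree72 : Tr (List ℕ) := .node (.leaf nd76) (.leaf nd332)

def ndTree73 : Tr (List ℕ) := .node ndTree72 (.leaf nd204)

def ndTree74 : Tr (List ℕ) := .node ndTree71 ndTree73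

def ndTree75 : Tr (List ℕ) := .node (.leaf nd44) (.leaf nd300)

def ndTree76 : Tr (List ℕ) := .node ndTree75 (.leaf nd172)

def ndTree77 : Tr (List ℕ) := .node (.leaf nd108) (.leaf nd364)

def ndTree78 : Tr (List ℕ) := .node ndTree77 (.leaf nd236)

def ndTree79 : Tr (List ℕ) := .node ndTree76 ndTree78

def ndTree80 : Tr (List ℕ) := .node ndTree74 ndTree79

def ndTree81 : Tr (List ℕ) := .node (.leaf nd28) (.leaf nd284)

def ndTree82 : Tr (List ℕ) := .node ndTree81 (.leaf nd156)

def ndTree83 : Tr (List ℕ) := .node (.leaf nd92) (.leaf nd348)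

def ndTree84 : Tr (List ℕ) := .node ndTree83 (.leaf nd220)

def ndTree85 : Tr (List ℕ) := .node ndTree82 ndTree84

def ndTree86 : Tr (List ℕ) := .node (.leaf nd60) (.leaf nd316)

def ndTree87 : Tr (List ℕ) := .node ndTree86 (.leaf nd188)

def ndTree88 : Tr (List ℕ) := .node (.leaf nd124) (.leaf nd252)

def ndTree89 : Tr (List ℕ) := .node ndTree87 ndTree88

def ndTree90 : Tr (List ℕ) := .node ndTree85 ndTree89

def ndTree91 : Tr (List ℕ) := .node ndTree80 ndTree90

def ndTree92 : Tr (List ℕ) := .node ndTree69 ndTree91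

def ndTree93 : Tr (List ℕ) := .node ndTree46 ndTree92

def ndTree94 : Tr (List ℕ) := .node (.leaf nd2) (.leaf nd258)

def ndTree95 : Tr (List ℕ) := .node ndTree94 (.leaf nd130)

def ndTree96 : Tr (List ℕ) := .node (.leaf nd66) (.leaf nd322)

def ndTree97 : Tr (List ℕ) := .node ndTree96 (.leaf nd194)

def ndTree98 : Tr (List ℕ) := .node ndTree95 ndTree97

def ndTree99 : Tr (List ℕ) := .node (.leaf nd34) (.leaf nd290)

def ndTree100 : Tr (List ℕ) := .node ndTree99 (.leaf nd162)

def ndTree101 : Tr (List ℕ) := .node (.leaf nd98) (.leaf nd354)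

def ndTree102 : Tr (List ℕ) := .node ndTree101 (.leaf nd226)

def ndTree103 : Tr (List ℕ) := .node ndTree100 ndTree102

def ndTree104 : Tr (List ℕ) := .node ndTree98 ndTree103

def ndTree105 : Tr (List ℕ) := .node (.leaf nd18) (.leaf nd274)

def ndTree106 : Tr (List ℕ) := .node ndTree105 (.leaf nd146)

def ndTree107 : Tr (List ℕ) := .node (.leaf nd82) (.leaf nd338)

def ndTree108 : Tr (List ℕ) := .node ndTree107 (.leaf nd210)

def ndTree109 : Tr (List ℕ) := .node ndTree106 ndTree108

def ndTree110 : Tr (List ℕ) := .node (.leaf nd50) (.leaf nd306)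

def ndTree111 : Tr (List ℕ) := .node ndTree110 (.leaf nd178)

def ndTree112 : Tr (List ℕ) := .node (.leaf nd114) (.leaf nd370)

def ndTree113 : Tr (List ℕ) := .node ndTree112 (.leaf nd242)

def ndTree114 : Tr (List ℕ) := .node ndTree111 ndTree113

def ndTree115 : Tr (List ℕ) := .node ndTree109 ndTree114

def ndTree116 : Tr (List ℕ) := .node ndTree104 ndTree115

def ndTree117 : Tr (List ℕ) := .node (.leaf nd10) (.leaf nd266)

def ndTree118 : Tr (List ℕ) := .node ndTree117 (.leaf nd138)

def ndTree119 : Tr (List ℕ) := .node (.leaf nd74) (.leaf nd330)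

def ndTree120 : Tr (List ℕ) := .node ndTree119 (.leaf nd202)

def ndTree121 : Tr (List ℕ) := .node ndTree118 ndTree120

def ndTree122 : Tr (List ℕ) := .node (.leaf nd42) (.leaf nd298)

def ndTree123 : Tr (List ℕ) := .node ndTree122 (.leaf nd170)

def ndTree124 : Tr (List ℕ) := .node (.leaf nd106) (.leaf nd362)

def ndTree125 : Tr (List ℕ) := .node ndTree124 (.leaf nd234)

def ndTree126 : Tr (List ℕ) := .node ndTree123 ndTree125

def ndTree127 : Tr (List ℕ) := .node ndTree121 ndTree126

def ndTree128 : Tr (List ℕ) := .node (.leaf nd26) (.leaf nd282)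

def ndTree129 : Tr (List ℕ) := .node ndTree128 (.leaf nd154)

def ndTree130 : Tr (List ℕ) := .node (.leaf nd90) (.leaf nd346)

def ndTree131 : Tr (List ℕ) := .node ndTree130 (.leaf nd218)

def ndTree132 : Tr (List ℕ) := .node ndTree129 ndTree131

def ndTree133 : Tr (List ℕ) := .node (.leaf nd58) (.leaf nd314)

def ndTree134 : Tr (List ℕ) := .node ndTree133 (.leaf nd186)

def ndTree135 : Tr (List ℕ) := .node (.leaf nd122) (.leaf nd250)

def ndTree136 : Tr (List ℕ) := .node ndTree134 ndTree135

def ndTree137 : Tr (List ℕ) := .node ndTree132 ndTree136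

def ndTree138 : Tr (List ℕ) := .node ndTree127 ndTree137

def ndTree139 : Tr (List ℕ) := .node ndTree116 ndTree138

def ndTree140 : Tr (List ℕ) := .node (.leaf nd6) (.leaf nd262)

def ndTree141 : Tr (List ℕ) := .node ndTree140 (.leaf nd134)

def ndTree142 : Tr (List ℕ) := .node (.leaf nd70) (.leaf nd326)

def ndTree143 : Tr (List ℕ) := .node ndTree142 (.leaf nd198)

def ndTree144 : Tr (List ℕ) := .node ndTree141 ndTree143

def ndTree145 : Tr (List ℕ) := .node (.leaf nd38) (.leaf nd294)

def ndTree146 : Tr (List ℕ) := .node ndTree145 (.leaf nd166)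

def ndTree147 : Tr (List ℕ) := .node (.leaf nd102) (.leaf nd358)

def ndTree148 : Tr (List ℕ) := .node ndTree147 (.leaf nd230)

def ndTree149 : Tr (List ℕ) := .node ndTree146 ndTree148

def ndTree150 : Tr (List ℕ) := .node ndTree144 ndTree149

def ndTree151 : Tr (List ℕ) := .node (.leaf nd22) (.leaf nd278)

def ndTree152 : Tr (List ℕ) := .node ndTree151 (.leaf nd150)

def ndTree153 : Tr (List ℕ) := .node (.leaf nd86) (.leaf nd342)

def ndTree154 : Tr (List ℕ) := .node ndTree153 (.leaf nd214)

def ndTree155 : Tr (List ℕ) := .node ndTree152 ndTree154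

def ndTree156 : Tr (List ℕ) := .node (.leaf nd54) (.leaf nd310)

def ndTree157 : Tr (List ℕ) := .node ndTree156 (.leaf nd182)

def ndTree158 : Tr (List ℕ) := .node (.leaf nd118) (.leaf nd374)

def ndTree159 : Tr (List ℕ) := .node ndTree158 (.leaf nd246)

def ndTree160 : Tr (List ℕ) := .node ndTree157 ndTree159

def ndTree161 : Tr (List ℕ) := .node ndTree155 ndTree160

def ndTree162 : Tr (List ℕ) := .node ndTree150 ndTree161

def ndTree163 : Tr (List ℕ) := .node (.leaf nd14) (.leaf nd270)

def ndTree164 : Tr (List ℕ) := .node ndTree163 (.leaf nd142)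

def ndTree165 : Tr (List ℕ) := .node (.leaf nd78) (.leaf nd334)

def ndTree166 : Tr (List ℕ) := .node ndTree165 (.leaf nd206)

def ndTree167 : Tr (List ℕ) := .node ndTree164 ndTree166

def ndTree168 : Tr (List ℕ) := .node (.leaf nd46) (.leaf nd302)

def ndTree169 : Tr (List ℕ) := .node ndTree168 (.leaf nd174)

def ndTree170 : Tr (List ℕ) := .node (.leaf nd110) (.leaf nd366)

def ndTree171 : Tr (List ℕ) := .node ndTree170 (.leaf nd238)

def ndTree172 : Tr (List ℕ) := .node ndTree169 ndTree171

def ndTree173 : Tr (List ℕ) := .node ndTree167 ndTree172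

def ndTree174 : Tr (List ℕ) := .node (.leaf nd30) (.leaf nd286)

def ndTree175 : Tr (List ℕ) := .node ndTree174 (.leaf nd158)

def ndTree176 : Tr (List ℕ) := .node (.leaf nd94) (.leaf nd350)

def ndTree177 : Tr (List ℕ) := .node ndTree176 (.leaf nd222)

def ndTree178 : Tr (List ℕ) := .node ndTree175 ndTree177

def ndTree179 : Tr (List ℕ) := .node (.leaf nd62) (.leaf nd318)

def ndTree180 : Tr (List ℕ) := .node ndTree179 (.leaf nd190)

def ndTree181 : Tr (List ℕ) := .node (.leaf nd126) (.leaf nd254)

def ndTree182 : Tr (List ℕ) := .node ndTree180 ndTree181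

def ndTree183 : Tr (List ℕ) := .node ndTree178 ndTree182

def ndTree184 : Tr (List ℕ) := .node ndTree173 ndTree183

def ndTree185 : Tr (List ℕ) := .node ndTree162 ndTree184

def ndTree186 : Tr (List ℕ) := .node ndTree139 ndTree185

def ndTree187 : Tr (List ℕ) := .node ndTree93 ndTree186

def ndTree188 : Tr (List ℕ) := .node (.leaf nd1) (.leaf nd257)

def ndTree189 : Tr (List ℕ) := .node ndTree188 (.leaf nd129)

def ndTree190 : Tr (List ℕ) := .node (.leaf nd65) (.leaf nd321)

def ndTree191 : Tr (List ℕ) := .node ndTree190 (.leaf nd193)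

def ndTree192 : Tr (List ℕ) := .node ndTree189 ndTree191

def ndTree193 : Tr (List ℕ) := .node (.leaf nd33) (.leaf nd289)

def ndTree194 : Tr (List ℕ) := .node ndTree193 (.leaf nd161)

def ndTree195 : Tr (List ℕ) := .node (.leaf nd97) (.leaf nd353)

def ndTree196 : Tr (List ℕ) := .node ndTree195 (.leaf nd225)

def ndTree197 : Tr (List ℕ) := .node ndTree194 ndTree196

def ndTree198 : Tr (List ℕ) := .node ndTree192 ndTree197

def ndTree199 : Tr (List ℕ) := .node (.leaf nd17) (.leaf nd273)

def ndTree200 : Tr (List ℕ) := .node ndTree199 (.leaf nd145)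

def ndTree201 : Tr (List ℕ) := .node (.leaf nd81) (.leaf nd337)

def ndTree202 : Tr (List ℕ) := .node ndTree201 (.leaf nd209)

def ndTree203 : Tr (List ℕ) := .node ndTree200 ndTree202

def ndTree204 : Tr (List ℕ) := .node (.leaf nd49) (.leaf nd305)

def ndTree205 : Tr (List ℕ) := .node ndTree204 (.leaf nd177)

def ndTree206 : Tr (List ℕ) := .node (.leaf nd113) (.leaf nd369)

def ndTree207 : Tr (List ℕ) := .node ndTree206 (.leaf nd241)

def ndTree208 : Tr (List ℕ) := .node ndTree205 ndTree207

def ndTree209 : Tr (List ℕ) := .node ndTree203 ndTree208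

def ndTree210 : Tr (List ℕ) := .node ndTree198 ndTree209

def ndTree211 : Tr (List ℕ) := .node (.leaf nd9) (.leaf nd265)

def ndTree212 : Tr (List ℕ) := .node ndTree211 (.leaf nd137)

def ndTree213 : Tr (List ℕ) := .node (.leaf nd73) (.leaf nd329)

def ndTree214 : Tr (List ℕ) := .node ndTree213 (.leaf nd201)

def ndTree215 : Tr (List ℕ) := .node ndTree212 ndTree214

def ndTree216 : Tr (List ℕ) := .node (.leaf nd41) (.leaf nd297)

def ndTree217 : Tr (List ℕ) := .node ndTree216 (.leaf nd169)

def ndTree218 : Tr (List ℕ) := .node (.leaf nd105) (.leaf nd361)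

def ndTree219 : Tr (List ℕ) := .node ndTree218 (.leaf nd233)

def ndTree220 : Tr (List ℕ) := .node ndTree217 ndTree219

def ndTree221 : Tr (List ℕ) := .node ndTree215 ndTree220

def ndTree222 : Tr (List ℕ) := .node (.leaf nd25) (.leaf nd281)

def ndTree223 : Tr (List ℕ) := .node ndTree222 (.leaf nd153)

def ndTree224 : Tr (List ℕ) := .node (.leaf nd89) (.leaf nd345)

def ndTree225 : Tr (List ℕ) := .node ndTree224 (.leaf nd217)

def ndTree226 : Tr (List ℕ) := .node ndTree223 ndTree225

def ndTree227 : Tr (List ℕ) := .node (.leaf nd57) (.leaf nd313)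

def ndTree228 : Tr (List ℕ) := .node ndTree227 (.leaf nd185)

def ndTree229 : Tr (List ℕ) := .node (.leaf nd121) (.leaf nd377)

def ndTree230 : Tr (List ℕ) := .node ndTree229 (.leaf nd249)

def ndTree231 : Tr (List ℕ) := .node ndTree228 ndTree230

def ndTree232 : Tr (List ℕ) := .node ndTree226 ndTree231

def ndTree233 : Tr (List ℕ) := .node ndTree221 ndTree232

def ndTree234 : Tr (List ℕ) := .node ndTree210 ndTree233

def ndTree235 : Tr (List ℕ) := .node (.leaf nd5) (.leaf nd261)

def ndTree236 : Tr (List ℕ) := .node ndTree235 (.leaf nd133)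

def ndTree237 : Tr (List ℕ) := .node (.leaf nd69) (.leaf nd325)

def ndTree238 : Tr (List ℕ) := .node ndTree237 (.leaf nd197)

def ndTree239 : Tr (List ℕ) := .node ndTree236 ndTree238

def ndTree240 : Tr (List ℕ) := .node (.leaf nd37) (.leaf nd293)

def ndTree241 : Tr (List ℕ) := .node ndTree240 (.leaf nd165)

def ndTree242 : Tr (List ℕ) := .node (.leaf nd101) (.leaf nd357)

def ndTree243 : Tr (List ℕ) := .node ndTree242 (.leaf nd229)

def ndTree244 : Tr (List ℕ) := .node ndTree241 ndTree243

def ndTree245 : Tr (List ℕ) := .node ndTree239 ndTree244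

def ndTree246 : Tr (List ℕ) := .node (.leaf nd21) (.leaf nd277)

def ndTree247 : Tr (List ℕ) := .node ndTree246 (.leaf nd149)

def ndTree248 : Tr (List ℕ) := .node (.leaf nd85) (.leaf nd341)

def ndTree249 : Tr (List ℕ) := .node ndTree248 (.leaf nd213)

def ndTree250 : Tr (List ℕ) := .node ndTree247 ndTree249

def ndTree251 : Tr (List ℕ) := .node (.leaf nd53) (.leaf nd309)

def ndTree252 : Tr (List ℕ) := .node ndTree251 (.leaf nd181)

def ndTree253 : Tr (List ℕ) := .node (.leaf nd117) (.leaf nd373)

def ndTree254 : Tr (List ℕ) := .node ndTree253 (.leaf nd245)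

def ndTree255 : Tr (List ℕ) := .node ndTree252 ndTree254

def ndTree256 : Tr (List ℕ) := .node ndTree250 ndTree255

def ndTree257 : Tr (List ℕ) := .node ndTree245 ndTree256

def ndTree258 : Tr (List ℕ) := .node (.leaf nd13) (.leaf nd269)

def ndTree259 : Tr (List ℕ) := .node ndTree258 (.leaf nd141)

def ndTree260 : Tr (List ℕ) := .node (.leaf nd77) (.leaf nd333)

def ndTree261 : Tr (List ℕ) := .node ndTree260 (.leaf nd205)

def ndTree262 : Tr (List ℕ) := .node ndTree259 ndTree261

def ndTree263 : Tr (List ℕ) := .node (.leaf nd45) (.leaf nd301)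

def ndTree264 : Tr (List ℕ) := .node ndTree263 (.leaf nd173)

def ndTree265 : Tr (List ℕ) := .node (.leaf nd109) (.leaf nd365)

def ndTree266 : Tr (List ℕ) := .node ndTree265 (.leaf nd237)

def ndTree267 : Tr (List ℕ) := .node ndTree264 ndTree266

def ndTree268 : Tr (List ℕ) := .node ndTree262 ndTree267

def ndTree269 : Tr (List ℕ) := .node (.leaf nd29) (.leaf nd285)

def ndTree270 : Tr (List ℕ) := .node ndTree269 (.leaf nd157)

def ndTree271 : Tr (List ℕ) := .node (.leaf nd93) (.leaf nd349)

def ndTree272 : Tr (List ℕ) := .node ndTree271 (.leaf nd221)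

def ndTree273 : Tr (List ℕ) := .node ndTree270 ndTree272

def ndTree274 : Tr (List ℕ) := .node (.leaf nd61) (.leaf nd317)

def ndTree275 : Tr (List ℕ) := .node ndTree274 (.leaf nd189)

def ndTree276 : Tr (List ℕ) := .node (.leaf nd125) (.leaf nd253)

def ndTree277 : Tr (List ℕ) := .node ndTree275 ndTree276

def ndTree278 : Tr (List ℕ) := .node ndTree273 ndTree277

def ndTree279 : Tr (List ℕ) := .node ndTree268 ndTree278

def ndTree280 : Tr (List ℕ) := .node ndTree257 ndTree279

def ndTree281 : Tr (List ℕ) := .node ndTree234 ndTree280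

def ndTree282 : Tr (List ℕ) := .node (.leaf nd3) (.leaf nd259)

def ndTree283 : Tr (List ℕ) := .node ndTree282 (.leaf nd131)

def ndTree284 : Tr (List ℕ) := .node (.leaf nd67) (.leaf nd323)

def ndTree285 : Tr (List ℕ) := .node ndTree284 (.leaf nd195)

def ndTree286 : Tr (List ℕ) := .node ndTree283 ndTree285

def ndTree287 : Tr (List ℕ) := .node (.leaf nd35) (.leaf nd291)

def ndTree288 : Tr (List ℕ) := .node ndTree287 (.leaf nd163)

def ndTree289 : Tr (List ℕ) := .node (.leaf nd99) (.leaf nd355)

def ndTree290 : Tr (List ℕ) := .node ndTree289 (.leaf nd227)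

def ndTree291 : Tr (List ℕ) := .node ndTree288 ndTree290

def ndTree292 : Tr (List ℕ) := .node ndTree286 ndTree291

def ndTree293 : Tr (List ℕ) := .node (.leaf nd19) (.leaf nd275)

def ndTree294 : Tr (List ℕ) := .node ndTree293 (.leaf nd147)

def ndTree295 : Tr (List ℕ) := .node (.leaf nd83) (.leaf nd339)

def ndTree296 : Tr (List ℕ) := .node ndTree295 (.leaf nd211)

def ndTree297 : Tr (List ℕ) := .node ndTree294 ndTree296

def ndTree298 : Tr (List ℕ) := .node (.leaf nd51) (.leaf nd307)

def ndTree299 : Tr (List ℕ) := .node ndTree298 (.leaf nd179)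

def ndTree300 : Tr (List ℕ) := .node (.leaf nd115) (.leaf nd371)

def ndTree301 : Tr (List ℕ) := .node ndTree300 (.leaf nd243)

def ndTree302 : Tr (List ℕ) := .node ndTree299 ndTree301

def ndTree303 : Tr (List ℕ) := .node ndTree297 ndTree302

def ndTree304 : Tr (List ℕ) := .node ndTree292 ndTree303

def ndTree305 : Tr (List ℕ) := .node (.leaf nd11) (.leaf nd267)

def ndTree306 : Tr (List ℕ) := .node ndTree305 (.leaf nd139)

def ndTree307 : Tr (List ℕ) := .node (.leaf nd75) (.leaf nd331)

def ndTree308 : Tr (List ℕ) := .node ndTree307 (.leaf nd203)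

def ndTree309 : Tr (List ℕ) := .node ndTree306 ndTree308

def ndTree310 : Tr (List ℕ) := .node (.leaf nd43) (.leaf nd299)

def ndTree311 : Tr (List ℕ) := .node ndTree310 (.leaf nd171)

def ndTree312 : Tr (List ℕ) := .node (.leaf nd107) (.leaf nd363)

def ndTree313 : Tr (List ℕ) := .node ndTree312 (.leaf nd235)

def ndTree314 : Tr (List ℕ) := .node ndTree311 ndTree313

def ndTree315 : Tr (List ℕ) := .node ndTree309 ndTree314

def ndTree316 : Tr (List ℕ) := .node (.leaf nd27) (.leaf nd283)

def ndTree317 : Tr (List ℕ) := .node ndTree316 (.leaf nd155)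

def ndTree318 : Tr (List ℕ) := .node (.leaf nd91) (.leaf nd347)

def ndTree319 : Tr (List ℕ) := .node ndTree318 (.leaf nd219)

def ndTree320 : Tr (List ℕ) := .node ndTree317 ndTree319

def ndTree321 : Tr (List ℕ) := .node (.leaf nd59) (.leaf nd315)

def ndTree322 : Tr (List ℕ) := .node ndTree321 (.leaf nd187)

def ndTree323 : Tr (List ℕ) := .node (.leaf nd123) (.leaf nd251)

def ndTree324 : Tr (List ℕ) := .node ndTree322 ndTree323

def ndTree325 : Tr (List ℕ) := .node ndTree320 ndTree324

def ndTree326 : Tr (List ℕ) := .node ndTree315 ndTree325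

def ndTree327 : Tr (List ℕ) := .node ndTree304 ndTree326

def ndTree328 : Tr (List ℕ) := .node (.leaf nd7) (.leaf nd263)

def ndTree329 : Tr (List ℕ) := .node ndTree328 (.leaf nd135)

def ndTree330 : Tr (List ℕ) := .node (.leaf nd71) (.leaf nd327)

def ndTree331 : Tr (List ℕ) := .node ndTree330 (.leaf nd199)

def ndTree332 : Tr (List ℕ) := .node ndTree329 ndTree331

def ndTree333 : Tr (List ℕ) := .node (.leaf nd39) (.leaf nd295)

def ndTree334 : Tr (List ℕ) := .node ndTree333 (.leaf nd167)

def ndTree335 : Tr (List ℕ) := .node (.leaf nd103) (.leaf nd359)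

def ndTree336 : Tr (List ℕ) := .node ndTree335 (.leaf nd231)

def ndTree337 : Tr (List ℕ) := .node ndTree334 ndTree336

def ndTree338 : Tr (List ℕ) := .node ndTree332 ndTree337

def ndTree339 : Tr (List ℕ) := .node (.leaf nd23) (.leaf nd279)

def ndTree340 : Tr (List ℕ) := .node ndTree339 (.leaf nd151)

def ndTree341 : Tr (List ℕ) := .node (.leaf nd87) (.leaf nd343)

def ndTree342 : Tr (List ℕ) := .node ndTree341 (.leaf nd215)

def ndTree343 : Tr (List ℕ) := .node ndTree340 ndTree342

def ndTree344 : Tr (List ℕ) := .node (.leaf nd55) (.leaf nd311)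

def ndTree345 : Tr (List ℕ) := .node ndTree344 (.leaf nd183)

def ndTree346 : Tr (List ℕ) := .node (.leaf nd119) (.leaf nd375)

def ndTree347 : Tr (List ℕ) := .node ndTree346 (.leaf nd247)

def ndTree348 : Tr (List ℕ) := .node ndTree345 ndTree347

def ndTree349 : Tr (List ℕ) := .node ndTree343 ndTree348

def ndTree350 : Tr (List ℕ) := .node ndTree338 ndTree349

def ndTree351 : Tr (List ℕ) := .node (.leaf nd15) (.leaf nd271)

def ndTree352 : Tr (List ℕ) := .node ndTree351 (.leaf nd143)

def ndTree353 : Tr (List ℕ) := .node (.leaf nd79) (.leaf nd335)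

def ndTree354 : Tr (List ℕ) := .node ndTree353 (.leaf nd207)

def ndTree355 : Tr (List ℕ) := .node ndTree352 ndTree354

def ndTree356 : Tr (List ℕ) := .node (.leaf nd47) (.leaf nd303)

def ndTree357 : Tr (List ℕ) := .node ndTree356 (.leaf nd175)

def ndTree358 : Tr (List ℕ) := .node (.leaf nd111) (.leaf nd367)

def ndTree359 : Tr (List ℕ) := .node ndTree358 (.leaf nd239)

def ndTree360 : Tr (List ℕ) := .node ndTree357 ndTree359

def ndTree361 : Tr (List ℕ) := .node ndTree355 ndTree360

def ndTree362 : Tr (List ℕ) := .node (.leaf nd31) (.leaf nd287)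

def ndTree363 : Tr (List ℕ) := .node ndTree362 (.leaf nd159)

def ndTree364 : Tr (List ℕ) := .node (.leaf nd95) (.leaf nd351)

def ndTree365 : Tr (List ℕ) := .node ndTree364 (.leaf nd223)

def ndTree366 : Tr (List ℕ) := .node ndTree363 ndTree365

def ndTree367 : Tr (List ℕ) := .node (.leaf nd63) (.leaf nd319)

def ndTree368 : Tr (List ℕ) := .node ndTree367 (.leaf nd191)

def ndTree369 : Tr (List ℕ) := .node (.leaf nd127) (.leaf nd255)

def ndTree370 : Tr (List ℕ) := .node ndTree368 ndTree369

def ndTree371 : Tr (List ℕ) := .node ndTree366 ndTree370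

def ndTree372 : Tr (List ℕ) := .node ndTree361 ndTree371

def ndTree373 : Tr (List ℕ) := .node ndTree350 ndTree372

def ndTree374 : Tr (List ℕ) := .node ndTree327 ndTree373

def ndTree375 : Tr (List ℕ) := .node ndTree281 ndTree374

def ndTree376 : Tr (List ℕ) := .node ndTree187 ndTree375

/-- The table of the nodes. -/
def ndTab : Tr (List ℕ) := ndTree376

/-- The products. -/
def ndProg0 : List (ℕ × ℕ) := [(490, 490), (490, 548), (548, 548), (549, 550), (349, 551), (0, 1), (1, 553), (554, 1), (3, 555), (3, 2), (0, 557), (1, 558), (556, 559), (23, 2), (3, 561), (562, 1), (556, 563), (562, 559), (559, 565), (565, 566), (567, 29), (568, 563), (564, 569), (570, 570), (571, 571), (572, 572), (571, 573), (573, 573), (575, 575), (574, 576), (511, 577), (511, 570), (578, 579), (580, 580), (570, 581), (582, 582), (582, 583), (583, 583), (584, 585), (561, 565), (587, 587), (588, 588), (588, 589), (589, 589), (591, 591), (590, 592), (511, 593), (511, 587), (594, 595), (596, 596), (587, 597), (598, 598), (598, 599), (600,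 511), (586, 601), (564, 567), (603, 587), (604, 604), (605, 605), (606, 606), (607, 607), (606, 608), (511, 609), (511, 604), (610, 611), (612, 612), (613, 613), (612, 614), (604, 615), (602, 616), (568, 568), (618, 618), (619, 619), (620, 620), (621, 621), (618, 622), (511, 623), (511, 568), (624, 625), (626, 626)]

/-- The products. -/
def ndProg1 : List (ℕ × ℕ) := [(627, 627), (626, 628), (568, 629), (630, 630), (630, 631), (631, 631), (632, 633), (601, 634), (635, 586), (617, 636), (560, 560), (560, 638), (511, 639), (511, 560), (640, 641), (642, 642), (643, 643), (642, 644), (560, 645), (511, 555), (647, 647), (648, 648), (649, 649), (648, 650), (555, 651), (561, 561), (653, 653), (654, 654), (655, 655), (656, 656), (654, 657), (511, 658), (511, 561), (659, 660), (661, 661), (662, 662), (661, 663), (561, 664), (601, 665), (652, 666), (646, 667), (616, 616), (616, 669), (669, 669), (670, 671), (564, 564), (673, 673), (674, 674), (675, 675), (676, 676), (511, 677), (511, 564), (678, 679), (680, 680), (681, 681),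 (680, 682), (564, 683), (616, 652), (684, 685), (665, 686), (672, 687), (668, 688), (637, 689), (0, 565), (495, 552), (692, 495), (693, 23), (693, 691), (694, 695), (696, 696), (696, 697), (697, 697), (699, 699), (698, 700), (691, 701), (702, 702), (702, 703), (703, 703), (704, 705), (705, 705)]

/-- The products. -/
def ndProg2 : List (ℕ × ℕ) := [(706, 707), (565, 21), (691, 709), (710, 710), (710, 711), (693, 712), (693, 710), (713, 714), (715, 715), (715, 716), (716, 716), (717, 718), (718, 718), (719, 720), (710, 721), (708, 722), (4, 658), (658, 724), (725, 658), (724, 1), (726, 727), (728, 728), (693, 729), (693, 728), (730, 731), (732, 732), (732, 733), (733, 733), (734, 735), (735, 735), (736, 737), (728, 738), (723, 739), (0, 3), (693, 741), (742, 742), (743, 743), (741, 744), (739, 745), (739, 739), (739, 747), (747, 747), (749, 749), (748, 750), (746, 751), (740, 752), (693, 2), (693, 1), (754, 755), (756, 756), (757, 757), (758, 758), (759, 759), (757, 760), (1, 761), (691, 728), (763, 763), (764, 764),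 (763, 765), (765, 765), (766, 767), (767, 767), (768, 769), (693, 770), (693, 763), (771, 772), (773, 773), (773, 774), (774, 774), (776, 776), (775, 777), (763, 778), (779, 779), (780, 780), (779, 781), (781, 781), (782, 783), (762, 762), (762, 785), (785, 785)]

/-- The products. -/
def ndProg3 : List (ℕ × ℕ) := [(786, 787), (787, 787), (788, 789), (784, 790), (762, 791), (708, 792), (753, 793), (0, 554), (795, 1), (796, 1), (797, 4), (797, 798), (799, 5), (503, 552), (171, 171), (171, 802), (802, 802), (804, 804), (803, 805), (801, 806), (801, 800), (807, 808), (809, 809), (809, 810), (810, 810), (811, 812), (812, 812), (813, 814), (800, 815), (816, 816), (816, 817), (817, 817), (818, 819), (23, 799), (821, 821), (822, 822), (823, 823), (824, 824), (825, 825), (801, 826), (801, 821), (827, 828), (829, 829), (830, 830), (830, 831), (831, 831), (832, 833), (821, 834), (1, 724), (836, 798), (796, 691), (837, 838), (839, 839), (840, 840), (840, 841), (841, 841), (842, 843), (843, 843), (844, 845), (801, 846), (801,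 839), (847, 848), (849, 849), (850, 850), (851, 851), (852, 852), (850, 853), (839, 854), (855, 855), (856, 856), (855, 857), (857, 857), (858, 859), (835, 860), (861, 816), (801, 799), (863, 863), (864, 864), (865, 865), (866, 866)]

/-- The products. -/
def ndProg4 : List (ℕ × ℕ) := [(867, 867), (799, 868), (862, 869), (820, 870), (801, 691), (801, 23), (872, 873), (874, 874), (874, 875), (875, 875), (876, 877), (877, 877), (878, 879), (23, 880), (881, 881), (882, 882), (881, 883), (883, 883), (884, 885), (820, 835), (886, 887), (820, 887), (806, 806), (806, 890), (890, 890), (892, 892), (891, 893), (801, 894), (801, 798), (895, 896), (897, 897), (898, 898), (898, 899), (899, 899), (900, 901), (798, 902), (837, 837), (837, 904), (904, 904), (905, 906), (906, 906), (908, 908), (909, 909), (907, 910), (801, 911), (801, 837), (912, 913), (914, 914), (915, 915), (916, 916), (917, 917), (915, 918), (837, 919), (869, 920), (903, 921), (886, 922), (889, 923), (871, 924)]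

end Cfsg.Lib.J4Maximal.P11
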